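import Groth.Prelude.Def_W4c2conddiscmodels
import Mathlib

/-!
Contraction of connecting chains in multigraphs with multiplicity functions.
-/

set_option autoImplicit false
universe u

open Finset LabGraph

namespace Groth.Agent.LabChain

variable {V E : Type u} [Fintype V] [Fintype E] [DecidableEq V] [DecidableEq E]

lemma edgeMult_comm (ends : E → V × V) (v w : V) : edgeMult ends v w = edgeMult ends w v := by
  simp only [edgeMult, or_comm]

lemma edgeMult_eq_sum (ends : E → V × V) {v w : V} (h : v ≠ w) :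
    (edgeMult ends v w : ℤ) = ∑ e : E, ((if ends e = (v, w) then (1:ℤ) else 0) +
      (if ends e = (w, v) then 1 else 0)) := by
  unfold edgeMult
  rw [card_filter, Nat.cast_sum]
  refine sum_congr rfl fun e _ => ?_
  by_cases h1 : ends e = (v, w)
  · simp [h1, h]
  · simp [h1]

lemma one_le_edgeMult (ends : E → V × V) {v w : V} {e : E}
    (h : ends e = (v, w) ∨ ends e = (w, v)) : 1 ≤ edgeMult ends v w :=
  card_pos.2 ⟨e, by simp [h]⟩

lemma beta_mul_diag {ends : E → V × V} {β : V → ℤ} (hβ : IsMultFn ends β) (v : V) :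
    β v * mfMatrix ends β v v = -∑ w ∈ univ.erase v, β w * (edgeMult ends v w : ℤ) := by
  rw [mfMatrix, if_pos rfl, Int.mul_ediv_cancel' ((hβ v).2.neg_right)]

lemma mulVec_apply (ends : E → V × V) (β : V → ℤ) (y : V → ℤ) (v : V) :
    (mfMatrix ends β).mulVec y v =
      mfMatrix ends β v v * y v + ∑ w ∈ univ.erase v, (edgeMult ends v w : ℤ) * y w := by
  rw [Matrix.mulVec, dotProduct, ← add_sum_erase _ _ (mem_univ v)]
  congr 1
  refine sum_congr rfl fun w hw => ?_
  rw [mfMatrix, if_neg (ne_of_mem_erase hw).symm]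

lemma mulVec_beta {ends : E → V × V} {β : V → ℤ} (hβ : IsMultFn ends β) (v : V) :
    (mfMatrix ends β).mulVec β v = 0 := by
  rw [mulVec_apply, mul_comm, beta_mul_diag hβ]
  simp only [mul_comm (β _)]
  exact neg_add_cancel _

lemma mfMatrix_comm (ends : E → V × V) (β : V → ℤ) (v w : V) :
    mfMatrix ends β v w = mfMatrix ends β w v := by
  unfold mfMatrix
  by_cases h : v = w
  · subst h; rfl
  · rw [if_neg h, if_neg (Ne.symm h), edgeMult_comm]

lemma sum_beta_mulVec {ends : E → V × V} {β : V → ℤ} (hβ : IsMultFn ends β) (y : V → ℤ) :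
    ∑ v, β v * (mfMatrix ends β).mulVec y v = 0 := by
  simp only [Matrix.mulVec, dotProduct, mul_sum]
  rw [sum_comm]
  refine sum_eq_zero fun w _ => ?_
  have h := mulVec_beta hβ w
  simp only [Matrix.mulVec, dotProduct] at h
  rw [← mul_zero (y w), ← h, mul_sum]
  refine sum_congr rfl fun v _ => ?_
  rw [mfMatrix_comm ends β w v]; ring

lemma mem_ker_betaHom (β : V → ℤ) (x : V → ℤ) :
    x ∈ LinearMap.ker (betaHom β) ↔ ∑ v, β v * x v = 0 := by
  simp [betaHom, Fintype.linearCombination_apply, smul_eq_mul, mul_comm]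

section Contract

variable (ends : E → V × V) (D : Finset E) (β : V → ℤ)

/-- `β` is constant on the classes of the contraction. -/
def ClassConst : Prop := ∀ v w, DualGr.ctrMk ends D v = DualGr.ctrMk ends D w → β v = β w

variable {ends D β}

omit [Fintype V] [Fintype E] [DecidableEq V] [DecidableEq E] in
lemma ctrFn_mk (hc : ClassConst ends D β) (v : V) :
    ctrFn ends D β (DualGr.ctrMk ends D v) = β v := by
  refine hc _ _ ?_
  exact Quotient.out_eq (s := DualGr.ctrSetoid ends D) _

lemma edgeMult_ctr {c c' : DualGr.CtrVert ends D} (h : c ≠ c') :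
    (edgeMult (DualGr.ctrEnds ends D) c c' : ℤ) =
      ∑ v ∈ univ.filter (fun v => DualGr.ctrMk ends D v = c),
        ∑ w ∈ univ.filter (fun w => DualGr.ctrMk ends D w = c'), (edgeMult ends v w : ℤ) := by
  rw [edgeMult_eq_sum _ h]
  let a : E → ℤ := fun e =>
    (if (DualGr.ctrMk ends D (ends e).1 = c ∧ DualGr.ctrMk ends D (ends e).2 = c') then (1:ℤ) else 0) +
    (if (DualGr.ctrMk ends D (ends e).1 = c' ∧ DualGr.ctrMk ends D (ends e).2 = c) then 1 else 0)
  have hL : (∑ e : DualGr.CtrEdge D, ((if DualGr.ctrEnds ends D e = (c, c') then (1:ℤ) else 0) +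
      (if DualGr.ctrEnds ends D e = (c', c) then 1 else 0))) = ∑ e : E, a e := by
    have h0 : ∑ e ∈ univ.filter (fun e => e ∉ D), a e = ∑ e, a e := by
      refine sum_filter_of_ne fun e _ hne heD => hne ?_
      simp only [a]
      rw [DualGr.ctrMk_fst_eq_ctrMk_snd ends D heD]
      rw [if_neg (fun hh => h (hh.1.symm.trans hh.2)), if_neg (fun hh => h (hh.2.symm.trans hh.1)),
        add_zero]
    rw [← h0, sum_subtype (univ.filter (fun e : E => e ∉ D)) (p := fun e => e ∉ D) (by intro e; simp)]
    refine sum_congr rfl fun e _ => ?_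
    simp [a, DualGr.ctrEnds, Prod.ext_iff]
  have hR : ∀ v ∈ univ.filter (fun v => DualGr.ctrMk ends D v = c),
      (∑ w ∈ univ.filter (fun w => DualGr.ctrMk ends D w = c'), (edgeMult ends v w : ℤ)) =
      ∑ w ∈ univ.filter (fun w => DualGr.ctrMk ends D w = c'),
        ∑ e : E, ((if ends e = (v, w) then (1:ℤ) else 0) + (if ends e = (w, v) then 1 else 0)) := by
    intro v hv
    refine sum_congr rfl fun w hw => edgeMult_eq_sum _ ?_
    rintro rfl
    simp only [mem_filter] at hv hw
    exact h (hv.2.symm.trans hw.2)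
  rw [hL, sum_congr rfl hR]
  simp only [sum_add_distrib, Prod.ext_iff]
  rw [sum_comm (s := univ.filter fun v => DualGr.ctrMk ends D v = c)]
  simp only [a, sum_add_distrib]
  congr 1
  · rw [sum_comm]
    conv_rhs => arg 2; ext w; rw [sum_comm]
    rw [sum_comm]
    refine sum_congr rfl fun e _ => ?_
    simp [ite_and, sum_ite_eq]
  · conv_rhs => arg 2; ext w; rw [sum_comm]
    rw [sum_comm]
    refine sum_congr rfl fun e _ => ?_
    simp [ite_and, sum_ite_eq]

lemma sum_edgeMult_ctr (c : DualGr.CtrVert ends D) (y : DualGr.CtrVert ends D → ℤ) :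
    ∑ c' ∈ univ.erase c, (edgeMult (DualGr.ctrEnds ends D) c c' : ℤ) * y c' =
      ∑ v ∈ univ.filter (fun v => DualGr.ctrMk ends D v = c),
        ∑ w ∈ univ.filter (fun w => DualGr.ctrMk ends D w ≠ c),
          (edgeMult ends v w : ℤ) * y (DualGr.ctrMk ends D w) := by
  calc _ = ∑ c' ∈ univ.erase c, ∑ v ∈ univ.filter (fun v => DualGr.ctrMk ends D v = c),
        ∑ w ∈ univ.filter (fun w => DualGr.ctrMk ends D w = c'),
          (edgeMult ends v w : ℤ) * y (DualGr.ctrMk ends D w) := by
        refine sum_congr rfl fun c' hc' => ?_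
        rw [edgeMult_ctr (ne_of_mem_erase hc').symm, sum_mul]
        refine sum_congr rfl fun v _ => ?_
        rw [sum_mul]
        refine sum_congr rfl fun w hw => ?_
        rw [(mem_filter.1 hw).2]
    _ = _ := by
        rw [sum_comm]
        refine sum_congr rfl fun v _ => ?_
        rw [← sum_fiberwise_of_maps_to (g := DualGr.ctrMk ends D)
          (t := univ.erase c) (fun w hw => mem_erase.2 ⟨(mem_filter.1 hw).2, mem_univ _⟩)]
        refine sum_congr rfl fun c' hc' => sum_congr ?_ fun _ _ => rfl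
        ext w
        simp only [mem_filter, mem_univ, true_and]
        exact ⟨fun hw => ⟨hw ▸ ne_of_mem_erase hc', hw⟩, fun hw => hw.2⟩

lemma isMultFn_ctr (hβ : IsMultFn ends β) (hc : ClassConst ends D β) :
    IsMultFn (DualGr.ctrEnds ends D) (ctrFn ends D β) := by
  intro c
  obtain ⟨v₀, rfl⟩ := DualGr.ctrMk_surjective ends D c
  rw [ctrFn_mk hc]
  refine ⟨(hβ v₀).1, ?_⟩
  have := sum_edgeMult_ctr (DualGr.ctrMk ends D v₀) (ctrFn ends D β)
  simp only [mul_comm (ctrFn ends D β _)]
  rw [this]
  refine dvd_sum fun v hv => ?_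
  have hv' : β v = β v₀ := hc _ _ (mem_filter.1 hv).2
  have htot : β v₀ ∣ ∑ w ∈ univ.erase v, β w * (edgeMult ends v w : ℤ) := hv' ▸ (hβ v).2
  rw [← sum_filter_add_sum_filter_not (univ.erase v)
    (fun w => DualGr.ctrMk ends D w = DualGr.ctrMk ends D v₀)] at htot
  have hin : β v₀ ∣ ∑ w ∈ (univ.erase v).filter (fun w => DualGr.ctrMk ends D w = DualGr.ctrMk ends D v₀),
      β w * (edgeMult ends v w : ℤ) :=
    dvd_sum fun w hw => by rw [hc _ _ (mem_filter.1 hw).2]; exact dvd_mul_right _ _
  have := (dvd_add_right hin).1 htot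
  refine dvd_trans this (dvd_of_eq ?_)
  refine sum_congr ?_ fun w _ => by rw [ctrFn_mk hc, mul_comm]
  ext w
  simp only [mem_filter, mem_erase, mem_univ, and_true, true_and, and_iff_right_iff_imp]
  intro hw e
  exact hw (e ▸ (mem_filter.1 hv).2)

lemma mulVec_ctr_of_singleton (hβ : IsMultFn ends β) (hc : ClassConst ends D β) {v : V}
    (hv : ∀ w, DualGr.ctrMk ends D w = DualGr.ctrMk ends D v → w = v)
    (h : DualGr.CtrVert ends D → ℤ) :
    (mfMatrix (DualGr.ctrEnds ends D) (ctrFn ends D β)).mulVec h (DualGr.ctrMk ends D v) =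
      (mfMatrix ends β).mulVec (fun w => h (DualGr.ctrMk ends D w)) v := by
  have key : ∀ y : DualGr.CtrVert ends D → ℤ,
      ∑ c' ∈ univ.erase (DualGr.ctrMk ends D v),
        (edgeMult (DualGr.ctrEnds ends D) (DualGr.ctrMk ends D v) c' : ℤ) * y c' =
      ∑ w ∈ univ.erase v, (edgeMult ends v w : ℤ) * y (DualGr.ctrMk ends D w) := by
    intro y
    rw [sum_edgeMult_ctr]
    have h1 : univ.filter (fun w => DualGr.ctrMk ends D w = DualGr.ctrMk ends D v) = {v} := by
      ext w; simp only [mem_filter, mem_univ, true_and, mem_singleton]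
      exact ⟨hv w, fun e => e ▸ rfl⟩
    have h2 : univ.filter (fun w => DualGr.ctrMk ends D w ≠ DualGr.ctrMk ends D v) = univ.erase v := by
      ext w; simp only [mem_filter, mem_univ, true_and, mem_erase, and_true]
      exact ⟨fun hh e => hh (e ▸ rfl), fun hh e => hh (hv w e)⟩
    rw [h1, h2, sum_singleton]
  rw [mulVec_apply, mulVec_apply, key]
  congr 2
  have hd := beta_mul_diag (isMultFn_ctr hβ hc) (DualGr.ctrMk ends D v)
  rw [ctrFn_mk hc] at hd
  apply mul_left_cancel₀ (hβ v).1.ne'
  rw [hd, beta_mul_diag hβ, neg_inj]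
  simp only [mul_comm (ctrFn ends D β _), mul_comm (β _)]
  rw [key]
  simp only [ctrFn_mk hc]

end Contract

section Chain

variable {ends : E → V × V} {k : ℕ} {f : Fin (k + 1) → V} {e : Fin k → E}

omit [Fintype V] [Fintype E] [DecidableEq V] in
lemma ctrMk_eq_iff (hC : IsChain ends f e) {v w : V} :
    DualGr.ctrMk ends (univ.image e) v = DualGr.ctrMk ends (univ.image e) w ↔
      v = w ∨ ((∃ i, f i = v) ∧ ∃ i, f i = w) := by
  constructor
  · intro h
    have h' : Relation.EqvGen (DualGr.CtrRel ends (univ.image e)) v w := Quotient.exact h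
    clear h
    induction h' with
    | rel x y hxy =>
      obtain ⟨e', he', hxy⟩ := hxy
      simp only [mem_image, mem_univ, true_and] at he'
      obtain ⟨i, rfl⟩ := he'
      right
      rcases hC.2.2 i with h | h <;> rw [hxy, Prod.mk.injEq] at h
      · exact ⟨⟨_, h.1.symm⟩, ⟨_, h.2.symm⟩⟩
      · exact ⟨⟨_, h.1.symm⟩, ⟨_, h.2.symm⟩⟩
    | refl x => exact Or.inl rfl
    | symm x y _ ih => exact ih.imp Eq.symm And.symm
    | trans x y z _ _ i1 i2 =>
      rcases i1 with rfl | i1
      · exact i2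
      · rcases i2 with rfl | i2
        · exact Or.inr i1
        · exact Or.inr ⟨i1.1, i2.2⟩
  · rintro (rfl | ⟨⟨i, rfl⟩, ⟨j, rfl⟩⟩)
    · rfl
    · have h0 : ∀ i : Fin (k + 1), DualGr.ctrMk ends (univ.image e) (f i) =
          DualGr.ctrMk ends (univ.image e) (f 0) := by
        intro i
        induction i using Fin.induction with
        | zero => rfl
        | succ i ih =>
          rw [← ih]
          have he : e i ∈ univ.image e := mem_image.2 ⟨i, mem_univ _, rfl⟩
          have := DualGr.ctrMk_fst_eq_ctrMk_snd ends _ he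
          rcases hC.2.2 i with h | h <;> rw [h] at this
          · exact this.symm
          · exact this
      rw [h0 i, h0 j]

omit [Fintype V] [Fintype E] [DecidableEq V] in
lemma classConst_chain {β : V → ℤ} (hC : IsChain ends f e) (hconst : ∀ i j, β (f i) = β (f j)) :
    ClassConst ends (univ.image e) β := by
  intro v w h
  rcases (ctrMk_eq_iff hC).1 h with rfl | ⟨⟨i, rfl⟩, ⟨j, rfl⟩⟩
  · rfl
  · exact hconst i j

omit [Fintype V] [Fintype E] [DecidableEq V] in
lemma singleton_class (hC : IsChain ends f e) {v : V} (hv : ∀ i, f i ≠ v) (w : V)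
    (h : DualGr.ctrMk ends (univ.image e) w = DualGr.ctrMk ends (univ.image e) v) : w = v := by
  rcases (ctrMk_eq_iff hC).1 h with h | ⟨-, i, hi⟩
  · exact h
  · exact absurd hi (hv i)

omit [Fintype V] [Fintype E] in
lemma liftAt_mk (hC : IsChain ends f e) (x : DualGr.CtrVert ends (univ.image e) → ℤ) (v : V) :
    liftAt ends (univ.image e) (f 0) x v =
      if (∃ i, i ≠ 0 ∧ f i = v) then 0 else x (DualGr.ctrMk ends (univ.image e) v) := by
  unfold liftAt
  refine if_congr ?_ rfl rfl
  constructor
  · rintro ⟨h, hne⟩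
    rcases (ctrMk_eq_iff hC).1 h with h | ⟨⟨i, rfl⟩, -⟩
    · exact absurd h hne
    · exact ⟨i, fun e => hne (e ▸ rfl), rfl⟩
  · rintro ⟨i, hi, rfl⟩
    exact ⟨(ctrMk_eq_iff hC).2 (Or.inr ⟨⟨i, rfl⟩, ⟨0, rfl⟩⟩), fun e => hi (hC.1 e)⟩

lemma betaHom_lift {β : V → ℤ} (hC : IsChain ends f e) (hc : ClassConst ends (univ.image e) β)
    (x : DualGr.CtrVert ends (univ.image e) → ℤ) :
    ∑ v, β v * liftAt ends (univ.image e) (f 0) x v =
      ∑ c, ctrFn ends (univ.image e) β c * x c := by
  simp only [liftAt_mk hC]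
  rw [← sum_fiberwise (univ : Finset V) (DualGr.ctrMk ends (univ.image e))]
  refine sum_congr rfl fun c _ => ?_
  obtain ⟨v, rfl⟩ := DualGr.ctrMk_surjective ends _ c
  obtain ⟨u, hu, hu'⟩ : ∃ u, DualGr.ctrMk ends (univ.image e) u = DualGr.ctrMk ends (univ.image e) v ∧
      ¬ ∃ i, i ≠ 0 ∧ f i = u := by
    by_cases hv : ∃ i, i ≠ 0 ∧ f i = v
    · obtain ⟨i, hi, rfl⟩ := hv
      exact ⟨f 0, (ctrMk_eq_iff hC).2 (Or.inr ⟨⟨0, rfl⟩, ⟨i, rfl⟩⟩),
        fun ⟨j, hj, hj'⟩ => hj (hC.1 hj')⟩
    · exact ⟨v, rfl, hv⟩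
  rw [← hu, sum_eq_single u]
  · rw [if_neg hu', ctrFn_mk hc]
  · intro w hw hwu
    rw [if_pos ?_, mul_zero]
    rcases (ctrMk_eq_iff hC).1 (mem_filter.1 hw).2 with h | ⟨⟨i, rfl⟩, ⟨j, rfl⟩⟩
    · exact absurd h hwu
    · refine ⟨i, fun hi => hu' ⟨j, fun hj => hwu (by rw [hi, hj]), rfl⟩, rfl⟩
  · intro h; simp at h

end Chain

section Main

variable {ends : E → V × V} {β : V → ℤ} {m : ℕ} {f : Fin (m + 1) → V} {e : Fin m → E}
  (hβ : IsMultFn ends β) (hC : IsChain ends f e)
  (hconn : ∀ i, IsConnecting ends (e i)) (hβm : ∀ i, β (f i) = m)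
  (hα : ∀ i, mfMatrix ends β (f i) (f i) = -2)

include hβ hβm in
lemma m_pos : 0 < m := by
  have := (hβ (f 0)).1
  rw [hβm] at this
  exact_mod_cast this

include hβ hC hβm hα in
/-- An internal vertex of the chain has exactly its two chain neighbours. -/
lemma internal_edgeMult (j : ℕ) (hj : j + 2 ≤ m) (w : V) (hw : w ≠ f ⟨j + 1, by omega⟩) :
    (edgeMult ends (f ⟨j + 1, by omega⟩) w : ℤ) =
      (if w = f ⟨j, by omega⟩ then 1 else 0) + (if w = f ⟨j + 2, by omega⟩ then 1 else 0) := by
  set a := f ⟨j, by omega⟩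
  set v := f ⟨j + 1, by omega⟩
  set b := f ⟨j + 2, by omega⟩
  have hab : a ≠ b := fun h => by have := hC.1 h; simp [Fin.ext_iff] at this
  have hav : a ≠ v := fun h => by have := hC.1 h; simp [Fin.ext_iff] at this
  have hbv : b ≠ v := fun h => by have := hC.1 h; simp [Fin.ext_iff] at this
  have h1a : 1 ≤ edgeMult ends v a := by
    refine one_le_edgeMult ends (e := e ⟨j, by omega⟩) ?_
    exact (hC.2.2 ⟨j, by omega⟩).symm
  have h1b : 1 ≤ edgeMult ends v b := one_le_edgeMult ends (e := e ⟨j + 1, by omega⟩) (hC.2.2 _)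
  have hS : ∑ u ∈ univ.erase v, β u * (edgeMult ends v u : ℤ) = 2 * m := by
    have := beta_mul_diag hβ v
    rw [hα, hβm] at this
    linarith
  let δ : V → ℤ := fun u => (if u = a then 1 else 0) + (if u = b then 1 else 0)
  have hle : ∀ u ∈ univ.erase v, β u * δ u ≤ β u * (edgeMult ends v u : ℤ) := by
    intro u _
    refine mul_le_mul_of_nonneg_left ?_ (hβ u).1.le
    simp only [δ]
    by_cases hua : u = a
    · subst hua; rw [if_pos rfl, if_neg hab]; simpa using h1a
    · by_cases hub : u = b
      · subst hub; rw [if_neg hua, if_pos rfl]; simpa using h1b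
      · simp [hua, hub]
  have hsum : ∑ u ∈ univ.erase v, β u * δ u = 2 * m := by
    simp only [δ, mul_add, sum_add_distrib, mul_ite, mul_one, mul_zero, sum_ite_eq',
      mem_erase, mem_univ, and_true, hav, hbv, ne_eq, not_false_eq_true, if_true]
    simp only [a, b, hβm]; ring
  have := (sum_eq_sum_iff_of_le hle).1 (hsum.trans hS.symm) w (mem_erase.2 ⟨hw, mem_univ _⟩)
  exact (mul_left_cancel₀ (hβ w).1.ne' this).symm

include hβ hC hβm hα in
lemma internal_row (j : ℕ) (hj : j + 2 ≤ m) (y : V → ℤ) :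
    (mfMatrix ends β).mulVec y (f ⟨j + 1, by omega⟩) =
      y (f ⟨j, by omega⟩) - 2 * y (f ⟨j + 1, by omega⟩) + y (f ⟨j + 2, by omega⟩) := by
  rw [mulVec_apply, hα, sum_congr rfl (fun w hw => by
    rw [internal_edgeMult hβ hC hβm hα j hj w (ne_of_mem_erase hw)])]
  simp only [add_mul, sum_add_distrib, ite_mul, one_mul, zero_mul, sum_ite_eq', mem_erase, mem_univ,
    and_true]
  rw [if_pos, if_pos]
  · ring
  all_goals intro h; have := hC.1 h; simp [Fin.ext_iff] at this

include hβ hC hβm hα in
lemma internal_no_ext {v : V} (hv : ∀ i, f i ≠ v) (i : Fin (m + 1)) (h0 : i.val ≠ 0)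
    (hm : i.val ≠ m) : edgeMult ends v (f i) = 0 := by
  obtain ⟨i, hi⟩ := i
  obtain ⟨j, rfl⟩ : ∃ j, i = j + 1 := ⟨i - 1, by simp only at h0; omega⟩
  have hj : j + 2 ≤ m := by simp only at hm; omega
  have := internal_edgeMult hβ hC hβm hα j hj v (hv _).symm
  rw [if_neg (hv _).symm, if_neg (hv _).symm, add_zero] at this
  rw [edgeMult_comm]
  exact_mod_cast this

include hβ hC hconn hβm hα in
/-- The correction vector: linear along the chain, killed by the matrix outside the chain, `-1` at its end. -/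
lemma exists_correction : ∃ g : V → ℤ, (∀ i : Fin (m + 1), g (f i) = (i.val : ℤ)) ∧
    (∀ v, (∀ i, f i ≠ v) → (mfMatrix ends β).mulVec g v = 0) ∧
    (mfMatrix ends β).mulVec g (f (Fin.last m)) = -1 := by
  obtain ⟨n, rfl⟩ : ∃ n, m = n + 1 := ⟨m - 1, by have := m_pos hβ hβm; omega⟩
  obtain ⟨S, hS⟩ := hconn 0
  classical
  have h01 : (f 0 ∈ S) ↔ ¬ f 1 ∈ S := by
    have h := (hS (e 0)).2 rfl
    rcases hC.2.2 0 with he | he <;> rw [he] at h <;> simp only at h
    · exact h
    · change f 1 ∈ S ↔ f 0 ∉ S at h; tauto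
  have hside : ∀ i : Fin (n + 1), (f i.succ ∈ S) ↔ f 1 ∈ S := by
    intro i
    induction i using Fin.induction with
    | zero => rfl
    | succ i ih =>
      rw [← ih]
      have h : ¬ ((ends (e i.succ)).1 ∈ S ↔ (ends (e i.succ)).2 ∉ S) := fun h =>
        Fin.succ_ne_zero i (hC.2.1 ((hS _).1 h))
      rcases hC.2.2 i.succ with he | he <;> rw [he] at h <;> simp only at h
      · rw [show i.succ.castSucc = i.castSucc.succ from rfl] at h; tauto
      · rw [show i.succ.castSucc = i.castSucc.succ from rfl] at h; tauto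
  let B : V → Prop := fun v => (v ∈ S ↔ f 1 ∈ S)
  have hB0 : ¬ B (f 0) := by simp only [B]; tauto
  have hBs : ∀ i : Fin (n + 1), B (f i.succ) := hside
  have hB1 : B (f 1) := Iff.rfl
  -- the only edge between the two sides is `e 0`
  have hcross : ∀ v w : V, ¬ (B v ↔ B w) → (edgeMult ends v w : ℤ) =
      (if (v = f 0 ∧ w = f 1) ∨ (v = f 1 ∧ w = f 0) then 1 else 0) := by
    intro v w hvw
    split_ifs with hp
    · have h1 : edgeMult ends v w = 1 := by
        unfold edgeMult
        rw [card_eq_one]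
        refine ⟨e 0, ?_⟩
        ext e'
        simp only [mem_filter, mem_univ, true_and, mem_singleton]
        constructor
        · intro h
          apply (hS e').1
          simp only [B] at hvw
          rcases h with h | h <;> rw [h] <;> simp only <;> tauto
        · rintro rfl
          rcases hp with ⟨rfl, rfl⟩ | ⟨rfl, rfl⟩
          · exact hC.2.2 0
          · exact (hC.2.2 0).symm
      exact_mod_cast h1
    · norm_cast
      unfold edgeMult
      rw [card_eq_zero, filter_eq_empty_iff]
      intro e' _ h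
      have he' : e' = e 0 := by
        apply (hS e').1
        simp only [B] at hvw
        rcases h with h | h <;> rw [h] <;> simp only <;> tauto
      subst he'
      apply hp
      rcases hC.2.2 0 with h' | h' <;> rcases h with h | h <;> rw [h', Prod.mk.injEq] at h
      · exact Or.inl ⟨h.1.symm, h.2.symm⟩
      · exact Or.inr ⟨h.2.symm, h.1.symm⟩
      · exact Or.inr ⟨h.1.symm, h.2.symm⟩
      · exact Or.inl ⟨h.2.symm, h.1.symm⟩
  let G : V → ℤ := fun v => if B v then β v else 0
  let c : V → ℤ := fun v => ∑ i : Fin (n + 1 + 1), if f i = v ∧ i ≠ 0 then (i.val : ℤ) - (n + 1 : ℕ) else 0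
  have hcf : ∀ i, c (f i) = if i ≠ 0 then (i.val : ℤ) - (n + 1 : ℕ) else 0 := by
    intro i
    simp only [c]
    rw [sum_eq_single i]
    · simp
    · intro j _ hj; simp [hC.1.ne hj]
    · simp
  have hc0 : ∀ v, (∀ i, f i ≠ v) → c v = 0 := fun v hv => sum_eq_zero fun i _ => by simp [hv i]
  refine ⟨G + c, ?_, ?_, ?_⟩
  · intro i
    rw [Pi.add_apply, hcf]
    refine Fin.cases ?_ (fun i => ?_) i
    · simp [G, hB0]
    · simp [G, hBs i, hβm, Fin.succ_ne_zero]; ring
  · intro v hv
    have hv0 : v ≠ f 0 := (hv 0).symm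
    have hv1 : v ≠ f 1 := (hv 1).symm
    have hG : (mfMatrix ends β).mulVec G v = 0 := by
      by_cases hvB : B v
      · rw [← mulVec_beta hβ v, mulVec_apply, mulVec_apply]
        simp only [G, if_pos hvB]
        congr 1
        refine sum_congr rfl fun w _ => ?_
        by_cases hw : B w
        · rw [if_pos hw]
        · rw [hcross v w (by tauto)]; simp [hv0, hv1]
      · rw [mulVec_apply]
        simp only [G, if_neg hvB, mul_zero, zero_add]
        refine sum_eq_zero fun w _ => ?_
        by_cases hw : B w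
        · rw [hcross v w (by tauto)]; simp [hv0, hv1]
        · rw [if_neg hw, mul_zero]
    have hc : (mfMatrix ends β).mulVec c v = 0 := by
      rw [mulVec_apply, hc0 v hv, mul_zero, zero_add]
      refine sum_eq_zero fun w _ => ?_
      by_cases hw : ∃ i, f i = w
      · obtain ⟨i, rfl⟩ := hw
        rw [hcf]
        by_cases hi : i = 0
        · simp [hi]
        · by_cases him : i.val = n + 1
          · simp [him]
          · rw [internal_no_ext hβ hC hβm hα hv i (fun h => hi (Fin.ext h)) him]; simp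
      · rw [hc0 w (fun i h => hw ⟨i, h⟩), mul_zero]
    rw [Matrix.mulVec_add, Pi.add_apply, hG, hc, add_zero]
  · rw [Matrix.mulVec_add, Pi.add_apply]
    set z := f (Fin.last (n + 1)) with hz
    have hzB : B z := hBs (Fin.last n)
    have hz0 : z ≠ f 0 := fun h => by have := hC.1 h; simp [Fin.ext_iff] at this
    have hG : (mfMatrix ends β).mulVec G z = if z = f 1 then -((n + 1 : ℕ) : ℤ) else 0 := by
      have : (mfMatrix ends β).mulVec G z = (mfMatrix ends β).mulVec β z +
          ∑ w ∈ univ.erase z, (if w = f 0 ∧ z = f 1 then -((n + 1 : ℕ) : ℤ) else 0) := by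
        rw [mulVec_apply, mulVec_apply, add_assoc, ← sum_add_distrib]
        simp only [G, if_pos hzB]
        congr 1
        refine sum_congr rfl fun w _ => ?_
        by_cases hw : B w
        · have : w ≠ f 0 := fun h => hB0 (h ▸ hw)
          simp [hw, this]
        · rw [hcross z w (by tauto), if_neg hw]
          by_cases hp : w = f 0 ∧ z = f 1
          · obtain ⟨rfl, hz1⟩ := hp
            simp [hz1, hβm]
          · rw [if_neg hp, if_neg]
            · simp
            · rintro (h | h)
              · exact hz0 h.1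
              · exact hp ⟨h.2, h.1⟩
      rw [this, mulVec_beta hβ, zero_add]
      by_cases h1 : z = f 1
      · simp [h1, show f 0 ≠ f 1 from fun h => hz0 (h1.trans h.symm)]
      · simp [h1]
    rw [hG, mulVec_apply]
    have hcz : c z = 0 := by simp [hz, hcf]
    rcases n with _ | k
    · have h1 : z = f 1 := rfl
      simp only [hcz, mul_zero]
      rw [if_pos h1, sum_eq_zero]
      · simp
      · intro w _
        by_cases hw : ∃ i, f i = w
        · obtain ⟨i, rfl⟩ := hw
          rw [hcf]
          fin_cases i <;> simp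
        · rw [hc0 w (fun i h => hw ⟨i, h⟩), mul_zero]
    · have h1 : z ≠ f 1 := fun h => by have := hC.1 h; simp [Fin.ext_iff] at this
      rw [hcz, mul_zero, zero_add, if_neg h1, zero_add]
      have hpre : k + 1 < k + 1 + 1 + 1 := by omega
      rw [sum_eq_single (f ⟨k + 1, hpre⟩)]
      · have he : (edgeMult ends z (f ⟨k + 1, hpre⟩) : ℤ) = 1 := by
          rw [edgeMult_comm]
          have hne : z ≠ f ⟨k + 1, hpre⟩ := fun h => by have := hC.1 h; simp [Fin.ext_iff] at this
          rw [internal_edgeMult hβ hC hβm hα k (by omega) z hne, if_neg, if_pos]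
          · rfl
          · rfl
          · intro h; have := hC.1 h; simp [Fin.ext_iff] at this; omega
        rw [he, hcf, if_pos (by simp [Fin.ext_iff])]; push_cast; ring
      · intro w hw hwne
        by_cases hex : ∃ i, f i = w
        · obtain ⟨i, rfl⟩ := hex
          rw [hcf]
          by_cases hi : i = 0
          · simp [hi]
          · by_cases him : i.val = k + 1 + 1
            · simp [him]
            · obtain ⟨j, hj⟩ : ∃ j, i.val = j + 1 := ⟨i.val - 1, by
                have : i.val ≠ 0 := fun h => hi (Fin.ext h)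
                omega⟩
              have hjk : j + 1 ≠ k + 1 := fun h => hwne (congrArg f (Fin.ext (hj.trans h)))
              obtain ⟨iv, hiv⟩ := i
              simp only at hj him
              subst hj
              rw [edgeMult_comm, internal_edgeMult hβ hC hβm hα j (by omega) z
                (ne_of_mem_erase hw).symm, if_neg, if_neg]
              · simp
              · intro h; have := hC.1 h; simp [Fin.ext_iff] at this; omega
              · intro h; have := hC.1 h; simp [Fin.ext_iff] at this; omega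
        · rw [hc0 w (fun i h => hex ⟨i, h⟩), mul_zero]
      · intro h
        exfalso
        apply h
        refine mem_erase.2 ⟨fun h => ?_, mem_univ _⟩
        have := hC.1 h; simp [Fin.ext_iff] at this

include hβ hC hβm in
lemma weighted_eq_zero {D : V → ℤ} (h0 : ∑ v, β v * D v = 0)
    (hD : ∀ v, v ≠ f 0 → D v = 0) : D = 0 := by
  have : β (f 0) * D (f 0) = 0 := by
    rw [← h0, sum_eq_single (f 0) (fun v _ hv => by rw [hD v hv, mul_zero]) (by simp)]
  funext v
  by_cases hv : v = f 0
  · subst hv; exact (mul_eq_zero.1 this).resolve_left (hβ _).1.ne'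
  · exact hD v hv

include hβ hC hconn hβm hα in
lemma lift_range (h : DualGr.CtrVert ends (univ.image e) → ℤ) :
    liftAt ends (univ.image e) (f 0)
      ((mfMatrix (DualGr.ctrEnds ends (univ.image e)) (ctrFn ends (univ.image e) β)).mulVec h) ∈
      LinearMap.range (Matrix.mulVecLin (mfMatrix ends β)) := by
  have hcc : ClassConst ends (univ.image e) β := classConst_chain hC (fun i j => by rw [hβm, hβm])
  obtain ⟨g, hg, hgv, hgm⟩ := exists_correction hβ hC hconn hβm hα
  set hh : V → ℤ := fun v => h (DualGr.ctrMk ends (univ.image e) v) with hhh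
  set d := (mfMatrix ends β).mulVec hh (f (Fin.last m)) with hd
  refine ⟨hh + d • g, ?_⟩
  rw [Matrix.mulVecLin_apply, ← sub_eq_zero]
  have hY : ∀ v, (mfMatrix ends β).mulVec (hh + d • g) v =
      (mfMatrix ends β).mulVec hh v + d * (mfMatrix ends β).mulVec g v := fun v => by
    rw [Matrix.mulVec_add, Pi.add_apply, Matrix.mulVec_smul, Pi.smul_apply, smul_eq_mul]
  apply weighted_eq_zero hβ hC hβm
  · simp only [Pi.sub_apply, mul_sub, sum_sub_distrib, sum_beta_mulVec hβ, betaHom_lift hC hcc,
      sum_beta_mulVec (isMultFn_ctr hβ hcc), sub_zero]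
  · intro v hv
    rw [Pi.sub_apply, sub_eq_zero, liftAt_mk hC, hY]
    by_cases hch : ∃ i, f i = v
    · obtain ⟨i, rfl⟩ := hch
      have hi : i ≠ 0 := fun hh => hv (hh ▸ rfl)
      rw [if_pos ⟨i, hi, rfl⟩]
      by_cases him : i = Fin.last m
      · subst him; rw [← hd, hgm]; ring
      · obtain ⟨j, hj⟩ : ∃ j, i.val = j + 1 := ⟨i.val - 1, by
          have : i.val ≠ 0 := fun h => hi (Fin.ext h)
          omega⟩
        have hlt : j + 2 ≤ m := by
          have := Fin.val_ne_iff.2 him
          have := i.isLt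
          simp only [Fin.val_last] at *
          omega
        obtain ⟨iv, hiv⟩ := i
        simp only at hj
        subst hj
        have hconst : ∀ a b, hh (f a) = hh (f b) := fun a b =>
          congrArg h ((ctrMk_eq_iff hC).2 (Or.inr ⟨⟨a, rfl⟩, ⟨b, rfl⟩⟩))
        rw [internal_row hβ hC hβm hα j hlt, internal_row hβ hC hβm hα j hlt, hg, hg, hg,
          hconst _ 0, hconst ⟨j + 1, _⟩ 0, hconst ⟨j + 2, _⟩ 0]
        push_cast; ring
    · have hv' : ∀ i, f i ≠ v := fun i hi => hch ⟨i, hi⟩
      rw [if_neg (fun ⟨i, _, hi⟩ => hv' i hi), hgv v hv', mul_zero, add_zero,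
        mulVec_ctr_of_singleton hβ hcc (singleton_class hC hv')]

include hβ hC hconn hβm hα in
lemma mem_range_of_lift (x : DualGr.CtrVert ends (univ.image e) → ℤ)
    (hx : ∑ c, ctrFn ends (univ.image e) β c * x c = 0) (y : V → ℤ)
    (hy : (mfMatrix ends β).mulVec y = liftAt ends (univ.image e) (f 0) x) :
    x ∈ LinearMap.range (Matrix.mulVecLin
      (mfMatrix (DualGr.ctrEnds ends (univ.image e)) (ctrFn ends (univ.image e) β))) := by
  have hcc : ClassConst ends (univ.image e) β := classConst_chain hC (fun i j => by rw [hβm, hβm])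
  obtain ⟨g, hg, hgv, hgm⟩ := exists_correction hβ hC hconn hβm hα
  have hm := m_pos hβ hβm
  set d := y (f ⟨1, by omega⟩) - y (f 0) with hd
  have hlin : ∀ j (hj : j ≤ m), y (f ⟨j, by omega⟩) = y (f 0) + j * d := by
    intro j
    induction j using Nat.twoStepInduction with
    | zero => intro hj; rw [show (⟨0, by omega⟩ : Fin (m + 1)) = 0 from rfl]; simp
    | one => intro hj; rw [hd]; push_cast; ring
    | more j ih1 ih2 =>
      intro hj
      have h := internal_row hβ hC hβm hα j hj y
      rw [hy, liftAt_mk hC, if_pos ⟨⟨j + 1, by omega⟩, by simp [Fin.ext_iff], rfl⟩,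
        ih1 (by omega), ih2 (by omega)] at h
      push_cast at h ⊢
      linarith
  set y' : V → ℤ := y - d • g with hy'
  have hconst : ∀ i, y' (f i) = y (f 0) := by
    intro i
    have := hlin i.val (Nat.lt_succ_iff.1 i.isLt)
    rw [Fin.eta] at this
    simp [hy', this, hg]; ring
  set h : DualGr.CtrVert ends (univ.image e) → ℤ :=
    fun c => y' (Quotient.out (s := DualGr.ctrSetoid ends (univ.image e)) c) with hh
  have hmk : ∀ v, h (DualGr.ctrMk ends (univ.image e) v) = y' v := by
    intro v
    have : DualGr.ctrMk ends (univ.image e)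
        (Quotient.out (s := DualGr.ctrSetoid ends (univ.image e)) (DualGr.ctrMk ends (univ.image e) v)) =
        DualGr.ctrMk ends (univ.image e) v := Quotient.out_eq (s := DualGr.ctrSetoid ends (univ.image e)) _
    rcases (ctrMk_eq_iff hC).1 this with h | ⟨⟨i, hi⟩, ⟨j, hj⟩⟩
    · exact congrArg y' h
    · show y' _ = _
      rw [← hi, hconst, ← hj, hconst]
  refine ⟨h, ?_⟩
  rw [Matrix.mulVecLin_apply]
  have key : ∀ v, (∀ i, f i ≠ v) →
      (mfMatrix (DualGr.ctrEnds ends (univ.image e)) (ctrFn ends (univ.image e) β)).mulVec h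
        (DualGr.ctrMk ends (univ.image e) v) = x (DualGr.ctrMk ends (univ.image e) v) := by
    intro v hv
    rw [mulVec_ctr_of_singleton hβ hcc (singleton_class hC hv), funext hmk, hy', Matrix.mulVec_sub,
      Matrix.mulVec_smul, Pi.sub_apply, hy, Pi.smul_apply, hgv v hv, smul_zero, sub_zero, liftAt_mk hC,
      if_neg (fun ⟨i, _, hi⟩ => hv i hi)]
  set c₀ := DualGr.ctrMk ends (univ.image e) (f 0) with hc₀
  have hne : ∀ c, c ≠ c₀ →
      (mfMatrix (DualGr.ctrEnds ends (univ.image e)) (ctrFn ends (univ.image e) β)).mulVec h c = x c := by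
    intro c hc
    obtain ⟨v, rfl⟩ := DualGr.ctrMk_surjective ends _ c
    exact key v fun i hi => hc ((ctrMk_eq_iff hC).2 (Or.inr ⟨⟨i, hi⟩, ⟨0, rfl⟩⟩))
  funext c
  by_cases hc : c = c₀
  · subst hc
    have h0 : ∑ c, ctrFn ends (univ.image e) β c *
        ((mfMatrix (DualGr.ctrEnds ends (univ.image e)) (ctrFn ends (univ.image e) β)).mulVec h c - x c) = 0 := by
      simp only [mul_sub, sum_sub_distrib, sum_beta_mulVec (isMultFn_ctr hβ hcc), hx, sub_zero]
    rw [sum_eq_single c₀ (fun c _ hc => by rw [hne c hc, sub_self, mul_zero]) (by simp),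
      ctrFn_mk hcc, mul_eq_zero] at h0
    exact sub_eq_zero.1 (h0.resolve_left (hβ _).1.ne')
  · exact hne c hc

include hβ hC hconn hβm hα in
lemma exists_normal_form (z : V → ℤ) : ∃ Y : V → ℤ, ∀ i : Fin (m + 1), i ≠ 0 →
    (z + (mfMatrix ends β).mulVec Y) (f i) = 0 := by
  obtain ⟨g, hg, hgv, hgm⟩ := exists_correction hβ hC hconn hβm hα
  -- values along the chain, solved downwards from the last vertex
  let F : ℕ → ℤ := fun i => if h : i < m + 1 then z (f ⟨i, h⟩) else 0
  let pr : ℕ → ℤ × ℤ := fun t => Nat.rec (0, 0)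
    (fun t p => (p.2, 2 * p.2 - p.1 - F (m - 1 - t))) t
  let u : ℕ → ℤ := fun t => (pr t).1
  have hu : ∀ t, u (t + 2) = 2 * u (t + 1) - u t - F (m - 1 - t) := fun t => rfl
  let y : V → ℤ := fun v => ∑ i : Fin (m + 1), if f i = v then u (m - i.val) else 0
  have hyf : ∀ i, y (f i) = u (m - i.val) := fun i => by
    simp only [y]
    rw [sum_eq_single i (fun j _ hj => if_neg (hC.1.ne hj)) (by simp), if_pos rfl]
  set r := (z + (mfMatrix ends β).mulVec y) (f (Fin.last m)) with hr
  refine ⟨y + r • g, fun i hi => ?_⟩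
  rw [Matrix.mulVec_add, Matrix.mulVec_smul]
  by_cases him : i = Fin.last m
  · subst him
    simp only [Pi.add_apply, Pi.smul_apply, hgm, smul_eq_mul]
    rw [Pi.add_apply] at hr
    linarith
  · obtain ⟨j, hj⟩ : ∃ j, i.val = j + 1 := ⟨i.val - 1, by
      have : i.val ≠ 0 := fun h => hi (Fin.ext h)
      omega⟩
    have hlt : j + 2 ≤ m := by
      have := Fin.val_ne_iff.2 him
      have := i.isLt
      simp only [Fin.val_last] at *
      omega
    obtain ⟨iv, hiv⟩ := i
    simp only at hj
    subst hj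
    simp only [Pi.add_apply, Pi.smul_apply, smul_eq_mul]
    rw [internal_row hβ hC hβm hα j hlt, internal_row hβ hC hβm hα j hlt, hg, hg, hg, hyf, hyf, hyf]
    have := hu (m - (j + 2))
    rw [show m - (j + 2) + 2 = m - j by omega, show m - (j + 2) + 1 = m - (j + 1) by omega,
      show m - 1 - (m - (j + 2)) = j + 1 by omega] at this
    simp only [F, dif_pos (show j + 1 < m + 1 by omega)] at this
    push_cast at this ⊢
    linarith

end Main

end Groth.Agent.LabChain
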